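import Groth.Agent.Lib.AlgInd4.Sky
import Groth.Agent.Lib.Ref1.Frame
import Groth.Prelude.Def_FlatMod2
import Mathlib.Algebra.Category.ModuleCat.Sheaf.ChangeOfRings
import Mathlib.Algebra.Category.ModuleCat.Injective
import Mathlib.RingTheory.Flat.Basic

/-!
# Extension of scalars to a finite locally free algebra preserves monomorphisms
-/

set_option autoImplicit false
set_option backward.isDefEq.respectTransparency false
set_option linter.style.haveILetI false

universe u

open CategoryTheory CategoryTheory.Limits AlgebraicGeometry TopologicalSpace Opposite TensorProduct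

noncomputable section

namespace GrothLib.AlgInd4

variable {X : Scheme.{u}} {A : Sheaf (Opens.grothendieckTopology X) RingCat.{u}} (φ : X.ringCatSheaf ⟶ A)

/-- The algebra as a module. -/
abbrev aMod : X.Modules := (SheafOfModules.restrictScalars φ).obj (SheafOfModules.unit A)

/-- The stalk of the structure sheaf. -/
abbrev OS (X : Scheme.{u}) (x : X) : Type u := X.presheaf.stalk x

theorem gs (N : X.Modules) {U : X.Opens} (x : X) (hx : x ∈ U) (a : Γ(X, U)) (s : Γ(N, U)) :
    N.presheaf.germ U x hx (a • s) = X.presheaf.germ U x hx a • N.presheaf.germ U x hx s :=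
  PresheafOfModules.germ_smul N.val x U hx a s

/-- The stalk of a module agrees with that of its underlying module. -/
abbrev toMS (M : SheafOfModules.{u} A) (x : X)
    (p : (show X.Modules from (SheafOfModules.restrictScalars φ).obj M).presheaf.stalk x) : MS M x := p

theorem exists_ψ (x : X) :
    ∃ ψ : OS X x →+* RS A x, ∀ (U : X.Opens) (hx : x ∈ U) (r : Γ(X, U)),
      ψ (X.presheaf.germ U x hx r) = rgerm hx (φ.hom.app (op U) r) := by
  classical
  let P : TopCat.Presheaf CommRingCat.{u} X.carrier := X.presheaf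
  let c : Cocone ((OpenNhds.inclusion x).op ⋙ (X.presheaf ⋙ forget₂ CommRingCat RingCat)) :=
    { pt := RingCat.of (RS A x)
      ι :=
        { app := fun U => RingCat.ofHom ((rgerm (A := A) U.unop.2).comp (φ.hom.app (op U.unop.1)).hom)
          naturality := fun U V i => RingCat.hom_ext (RingHom.ext fun a => by
            change rgerm V.unop.2 (φ.hom.app _ (X.presheaf.map ((OpenNhds.inclusion x).map i.unop).op a)) =
              rgerm U.unop.2 (φ.hom.app _ a)
            exact (congrArg (rgerm V.unop.2)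
              (ConcreteCategory.congr_hom (φ.hom.naturality ((OpenNhds.inclusion x).map i.unop).op) a)).trans
              (rgerm_res ((OpenNhds.inclusion x).map i.unop) V.unop.2 _)) } }
  let e : (X.presheaf.stalk x) →+* RS A x :=
    (colimit.desc _ c).hom.comp
      ((preservesColimitIso (forget₂ CommRingCat RingCat) ((OpenNhds.inclusion x).op ⋙ X.presheaf)).hom.hom :
        (X.presheaf.stalk x : Type u) →+* _)
  refine ⟨e, fun U hx r => ?_⟩
  have h := ConcreteCategory.congr_hom
    (ι_preservesColimitIso_hom (forget₂ CommRingCat RingCat) ((OpenNhds.inclusion x).op ⋙ X.presheaf) (op ⟨U, hx⟩)) r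
  exact (congrArg (colimit.desc _ c).hom h).trans (ConcreteCategory.congr_hom (colimit.ι_desc c (op ⟨U, hx⟩)) r)

/-- The homomorphism of stalks. -/
def ψ (x : X) : OS X x →+* RS A x := (exists_ψ φ x).choose

theorem ψ_germ {x : X} {U : X.Opens} (hx : x ∈ U) (r : Γ(X, U)) :
    ψ φ x (X.presheaf.germ U x hx r) = rgerm hx (φ.hom.app (op U) r) := (exists_ψ φ x).choose_spec U hx r

/-- `(restrict M)_x` is `M_x` through `ψ`. -/
theorem smul_stalk (M : SheafOfModules.{u} A) (x : X) (r : OS X x)
    (p : (show X.Modules from (SheafOfModules.restrictScalars φ).obj M).presheaf.stalk x) :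
    toMS φ M x (r • p) = ψ φ x r • toMS φ M x p := by
  obtain ⟨U, hU, r, rfl⟩ := TopCat.Presheaf.exists_germ_eq X.presheaf r
  obtain ⟨V, hV, n, rfl⟩ := TopCat.Presheaf.exists_germ_eq
    (show X.Modules from (SheafOfModules.restrictScalars φ).obj M).presheaf p
  rw [← TopCat.Presheaf.germ_res_apply X.presheaf (homOfLE inf_le_left) x (⟨hU, hV⟩ : x ∈ U ⊓ V) r,
    ← TopCat.Presheaf.germ_res_apply
      (show X.Modules from (SheafOfModules.restrictScalars φ).obj M).presheaf
      (homOfLE inf_le_right) x (⟨hU, hV⟩ : x ∈ U ⊓ V) n,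
    ← gs, ψ_germ]
  exact PresheafOfModules.germ_ringCat_smul (X := X.toTopCat) (R := A.obj) M.val x (U ⊓ V) ⟨hU, hV⟩ _ _

variable (hcen : ∀ (U : (Opens X)ᵒᵖ) (s : X.ringCatSheaf.obj.obj U) (a : A.obj.obj U),
      φ.hom.app U s * a = a * φ.hom.app U s)

include hcen in
theorem ψ_comm (x : X) (r : OS X x) (a : RS A x) : ψ φ x r * a = a * ψ φ x r := by
  obtain ⟨U, hU, r, rfl⟩ := TopCat.Presheaf.exists_germ_eq X.presheaf r
  obtain ⟨V, hV, a, rfl⟩ := TopCat.Presheaf.exists_germ_eq (C := RingCat.{u}) (X := X.carrier) A.obj a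
  rw [← TopCat.Presheaf.germ_res_apply X.presheaf (homOfLE inf_le_left) x (⟨hU, hV⟩ : x ∈ U ⊓ V) r,
    ← TopCat.Presheaf.germ_res_apply (C := RingCat.{u}) (X := X.carrier) A.obj (homOfLE inf_le_right) x
      (⟨hU, hV⟩ : x ∈ U ⊓ V) a, ψ_germ]
  change rgerm _ _ * rgerm _ _ = rgerm _ _ * rgerm _ _
  rw [← map_mul, ← map_mul, hcen]

/-- The stalk algebra. -/
abbrev algebraRS (x : X) : Algebra (OS X x) (RS A x) := (ψ φ x).toAlgebra' (ψ_comm φ hcen x)

include hcen in
theorem flat_stalk (hA : FlatMod.IsFinLocFree (X := X) (aMod φ)) (x : X) :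
    letI := algebraRS φ hcen x
    Module.Flat (OS X x) (RS A x) := by
  letI := algebraRS φ hcen x
  obtain ⟨U, n, e, hxU, he⟩ := GrothLib.FinCov.exists_frame_nhd hA x
  haveI : Module.Free (OS X x) ((aMod φ).presheaf.stalk x) :=
    Module.Free.of_equiv (LinearEquiv.ofBijective _ (GrothLib.Ref1.stalk_of_isFrame he x hxU))
  let P : TopCat.Presheaf Ab.{u} X.carrier := (aMod φ).presheaf
  let c : Cocone ((OpenNhds.inclusion x).op ⋙ P) :=
    { pt := AddCommGrpCat.of (RS A x)
      ι :=
        { app := fun V => AddCommGrpCat.ofHom (rgerm (A := A) V.unop.2).toAddMonoidHom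
          naturality := fun V W i => AddCommGrpCat.hom_ext (AddMonoidHom.ext fun a =>
            rgerm_res ((OpenNhds.inclusion x).map i.unop) W.unop.2 a) } }
  let f : P.stalk x →+ RS A x := (colimit.desc _ c).hom
  have hf : ∀ (V : X.Opens) (hx : x ∈ V) (a : A.obj.obj (op V)), f (P.germ V x hx a) = rgerm hx a :=
    fun V hx a => congr($(colimit.ι_desc c (op ⟨V, hx⟩)) a)
  let g : (aMod φ).presheaf.stalk x →ₗ[OS X x] RS A x :=
    { toFun := f
      map_add' := map_add f
      map_smul' := fun r p => by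
        obtain ⟨V, hV, r, rfl⟩ := TopCat.Presheaf.exists_germ_eq X.presheaf r
        obtain ⟨W, hW, a, rfl⟩ := TopCat.Presheaf.exists_germ_eq P p
        rw [RingHom.id_apply, ← TopCat.Presheaf.germ_res_apply X.presheaf (homOfLE inf_le_left) x (⟨hV, hW⟩ : x ∈ V ⊓ W) r,
          ← TopCat.Presheaf.germ_res_apply P (homOfLE inf_le_right) x (⟨hV, hW⟩ : x ∈ V ⊓ W) a,
          ← gs (aMod φ), hf, hf]
        change _ = ψ φ x _ * _
        rw [ψ_germ, ← map_mul]
        rfl }
  refine Module.Flat.of_linearEquiv (LinearEquiv.ofBijective g ⟨fun p q hpq => ?_, fun r => ?_⟩).symm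
  · obtain ⟨V, hV, a, rfl⟩ := TopCat.Presheaf.exists_germ_eq P p
    obtain ⟨W, hW, b, rfl⟩ := TopCat.Presheaf.exists_germ_eq P q
    change f _ = f _ at hpq
    rw [hf V hV, hf W hW] at hpq
    obtain ⟨T, hT, iV, iW, h⟩ :=
      TopCat.Presheaf.germ_eq (C := RingCat.{u}) (X := X.carrier) A.obj x hV hW a b hpq
    exact ((TopCat.Presheaf.germ_res_apply P iV x hT a).symm.trans (congrArg (P.germ T x hT) h)).trans
      (TopCat.Presheaf.germ_res_apply P iW x hT b)
  · obtain ⟨V, hV, a, rfl⟩ := TopCat.Presheaf.exists_germ_eq (C := RingCat.{u}) (X := X.carrier) A.obj r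
    exact ⟨P.germ V x hV a, hf V hV a⟩

theorem app_injective {N₁ N₂ : X.Modules} (m : N₁ ⟶ N₂) [Mono m] (U : X.Opens) :
    Function.Injective (m.app U) := by
  intro a b h
  haveI : Mono ((SheafOfModules.forget _).map m) := inferInstance
  exact PresheafOfModules.injective_of_mono ((SheafOfModules.forget _).map m) (op U) h

variable {L : SheafOfModules.{u} X.ringCatSheaf ⥤ SheafOfModules.{u} A}
  (adj : L ⊣ SheafOfModules.restrictScalars φ)

include hcen adj in
theorem mono_map (hA : FlatMod.IsFinLocFree (X := X) (aMod φ)) {N₁ N₂ : SheafOfModules.{u} X.ringCatSheaf}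
    (m : N₁ ⟶ N₂) [Mono m] : Mono (L.map m) := by
  refine ⟨fun {P} a b hab => SheafOfModules.hom_ext (PresheafOfModules.hom_ext fun V =>
    ModuleCat.hom_ext (LinearMap.ext fun p => ?_))⟩
  have hab' : (L.map m).val.app V (a.val.app V p) = (L.map m).val.app V (b.val.app V p) :=
    congrArg (fun t : P ⟶ L.obj N₂ => t.val.app V p) hab
  refine TopCat.Presheaf.section_ext (C := Ab.{u}) (X := X.carrier) ⟨(L.obj N₁).val.presheaf, (L.obj N₁).isSheaf⟩ V.unop
    (a.val.app V p) (b.val.app V p) fun x hx => ?_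
  -- work at `x`
  letI := algebraRS φ hcen x
  haveI := flat_stalk φ hcen hA x
  let R := OS X x
  let M₁ : X.Modules := N₁
  let M₂ : X.Modules := N₂
  let K := L.obj N₁
  letI : Module R (MS K x) := Module.compHom _ (ψ φ x)
  -- an injective container
  obtain ⟨⟨J, hJ, j₀, hj₀⟩⟩ := EnoughInjectives.presentation (ModuleCat.of R (MS K x))
  haveI : Module.Injective R J := Module.injective_module_of_injective_object R J (inj := hJ)
  have hj₀i : Function.Injective j₀ := (ModuleCat.mono_iff_injective j₀).1 hj₀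
  -- the coinduced module
  letI : Module (RS A x) (RS A x →ₗ[R] J) :=
    { smul := fun a f => f.comp (LinearMap.mulRight R a)
      one_smul := fun f => LinearMap.ext fun c => congrArg f (mul_one c)
      mul_smul := fun a b f => LinearMap.ext fun c => congrArg f (mul_assoc c a b).symm
      smul_zero := fun a => LinearMap.ext fun c => rfl
      smul_add := fun a f g => LinearMap.ext fun c => rfl
      add_smul := fun a b f => LinearMap.ext fun c => by
        change f (c * (a + b)) = f (c * a) + f (c * b)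
        rw [mul_add, map_add]
      zero_smul := fun f => LinearMap.ext fun c => by
        change f (c * 0) = 0
        rw [mul_zero, map_zero] }
  have hψE : ∀ (r : R) (f : RS A x →ₗ[R] J), ψ φ x r • f = r • f := fun r f => LinearMap.ext fun c => by
    change f (c * ψ φ x r) = r • f c
    rw [← map_smul, Algebra.smul_def, ← ψ_comm φ hcen]
    rfl
  -- the embedding of the stalk
  let j : MS K x →ₗ[RS A x] (RS A x →ₗ[R] J) :=
    { toFun := fun q =>
        { toFun := fun c => j₀ (c • q : MS K x)
          map_add' := fun c d => by rw [add_smul, map_add]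
          map_smul' := fun r c => by
            rw [RingHom.id_apply, Algebra.smul_def, mul_smul]
            exact map_smul j₀.hom r (c • q : MS K x) }
      map_add' := fun q q' => LinearMap.ext fun c => by
        change j₀ (c • (q + q') : MS K x) = j₀ (c • q : MS K x) + j₀ (c • q' : MS K x)
        rw [smul_add, map_add]
      map_smul' := fun a q => LinearMap.ext fun c => by
        change j₀ (c • (a • q) : MS K x) = j₀ ((c * a) • q : MS K x)
        rw [mul_smul] }
  have hj : Function.Injective j := fun q q' h => hj₀i (by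
    have h1 := LinearMap.congr_fun h (1 : RS A x)
    change j₀ ((1 : RS A x) • q : MS K x) = j₀ ((1 : RS A x) • q' : MS K x) at h1
    rwa [one_smul, one_smul] at h1)
  let S : SheafOfModules.{u} A := sky (A := A) x (RS A x →ₗ[R] J)
  let G : K ⟶ S := toSky K j
  let T : N₁ ⟶ (SheafOfModules.restrictScalars φ).obj S := adj.homEquiv N₁ S G
  -- the transpose on the stalk
  let c : Cocone ((OpenNhds.inclusion x).op ⋙ M₁.presheaf) :=
    { pt := AddCommGrpCat.of (RS A x →ₗ[R] J)
      ι :=
        { app := fun W => AddCommGrpCat.ofHom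
            { toFun := fun s => (T.val.app (op W.unop.1) s) ⟨W.unop.2⟩
              map_zero' := by rw [map_zero]; rfl
              map_add' := fun s t => by rw [map_add]; rfl }
          naturality := fun W W' i => AddCommGrpCat.hom_ext (AddMonoidHom.ext fun s =>
            congrArg (fun t : SkySec (x := x) (RS A x →ₗ[R] J) (op W'.unop.1) => t ⟨W'.unop.2⟩)
              (PresheafOfModules.naturality_apply T.val ((OpenNhds.inclusion x).map i.unop).op s)) } }
  let h₀ : M₁.presheaf.stalk x →+ (RS A x →ₗ[R] J) := (colimit.desc _ c).hom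
  have hh₀ : ∀ (W : X.Opens) (hW : x ∈ W) (s : Γ(M₁, W)),
      h₀ (M₁.presheaf.germ W x hW s) = (T.val.app (op W) s) ⟨hW⟩ :=
    fun W hW s => congr($(colimit.ι_desc c (op ⟨W, hW⟩)) s)
  let h : M₁.presheaf.stalk x →ₗ[R] (RS A x →ₗ[R] J) :=
    { toFun := h₀
      map_add' := map_add h₀
      map_smul' := fun r q => by
        obtain ⟨U, hU, r, rfl⟩ := TopCat.Presheaf.exists_germ_eq X.presheaf r
        obtain ⟨W, hW, s, rfl⟩ := TopCat.Presheaf.exists_germ_eq M₁.presheaf q
        rw [RingHom.id_apply, ← TopCat.Presheaf.germ_res_apply X.presheaf (homOfLE inf_le_left) x (⟨hU, hW⟩ : x ∈ U ⊓ W) r,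
          ← TopCat.Presheaf.germ_res_apply M₁.presheaf (homOfLE inf_le_right) x (⟨hU, hW⟩ : x ∈ U ⊓ W) s,
          ← gs M₁, hh₀, hh₀, ← hψE, ψ_germ]
        exact congrArg (fun t : SkySec (x := x) (RS A x →ₗ[R] J) (op (U ⊓ W)) => t ⟨⟨hU, hW⟩⟩)
          (map_smul (T.val.app (op (U ⊓ W))).hom _ _) }
  -- the map of stalks
  let m₀ : M₁.presheaf.stalk x →+ M₂.presheaf.stalk x :=
    ((TopCat.Presheaf.stalkFunctor (X := X.toTopCat) Ab.{u} x).map
      (show M₁ ⟶ M₂ from m).mapPresheaf).hom
  have hm₀ : ∀ (W : X.Opens) (hW : x ∈ W) (s : Γ(M₁, W)),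
      m₀ (M₁.presheaf.germ W x hW s) = M₂.presheaf.germ W x hW ((show M₁ ⟶ M₂ from m).app W s) :=
    fun W hW s => TopCat.Presheaf.stalkFunctor_map_germ_apply (X := X.toTopCat) W x hW
      (show M₁ ⟶ M₂ from m).mapPresheaf s
  let mx : M₁.presheaf.stalk x →ₗ[R] M₂.presheaf.stalk x :=
    { toFun := m₀
      map_add' := map_add m₀
      map_smul' := fun r q => by
        obtain ⟨U, hU, r, rfl⟩ := TopCat.Presheaf.exists_germ_eq X.presheaf r
        obtain ⟨W, hW, s, rfl⟩ := TopCat.Presheaf.exists_germ_eq M₁.presheaf q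
        rw [RingHom.id_apply, ← TopCat.Presheaf.germ_res_apply X.presheaf (homOfLE inf_le_left) x (⟨hU, hW⟩ : x ∈ U ⊓ W) r,
          ← TopCat.Presheaf.germ_res_apply M₁.presheaf (homOfLE inf_le_right) x (⟨hU, hW⟩ : x ∈ U ⊓ W) s,
          ← gs M₁, hm₀, hm₀, ← gs M₂, Scheme.Modules.Hom.app_smul] }
  have hmx : Function.Injective mx := fun q q' hq => by
    obtain ⟨U, hU, s, rfl⟩ := TopCat.Presheaf.exists_germ_eq M₁.presheaf q
    obtain ⟨W, hW, t, rfl⟩ := TopCat.Presheaf.exists_germ_eq M₁.presheaf q'
    change m₀ _ = m₀ _ at hq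
    rw [hm₀ U hU, hm₀ W hW] at hq
    obtain ⟨Z, hZ, iU, iW, hz⟩ := TopCat.Presheaf.germ_eq M₂.presheaf x hU hW _ _ hq
    have hn : ∀ {V W : X.Opens} (i : V ⟶ W) (v : Γ(M₁, W)), (show M₁ ⟶ M₂ from m).app V (M₁.presheaf.map i.op v) =
        M₂.presheaf.map i.op ((show M₁ ⟶ M₂ from m).app W v) := fun i v =>
      ConcreteCategory.congr_hom ((show M₁ ⟶ M₂ from m).mapPresheaf.naturality i.op) v
    haveI : Mono (show M₁ ⟶ M₂ from m) := ‹Mono m›
    have := app_injective (show M₁ ⟶ M₂ from m) Z (((hn iU s).trans hz).trans (hn iW t).symm)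
    exact ((TopCat.Presheaf.germ_res_apply M₁.presheaf iU x hZ s).symm.trans
      (congrArg (M₁.presheaf.germ Z x hZ) this)).trans (TopCat.Presheaf.germ_res_apply M₁.presheaf iW x hZ t)
  -- extend
  obtain ⟨g₂, hg₂⟩ := Module.Injective.extension_property R J _ _ (mx.rTensor (RS A x))
    (Module.Flat.rTensor_preserves_injective_linearMap mx hmx) (TensorProduct.lift h)
  let h' : M₂.presheaf.stalk x →ₗ[R] (RS A x →ₗ[R] J) := TensorProduct.curry g₂
  have hh' : ∀ q, h' (mx q) = h q := fun q => LinearMap.ext fun d => LinearMap.congr_fun hg₂ (q ⊗ₜ[R] d)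
  -- the extended map
  let T' : N₂ ⟶ (SheafOfModules.restrictScalars φ).obj S :=
    { val := PresheafOfModules.homMk
        { app := fun U => AddCommGrpCat.ofHom (X := M₂.presheaf.obj U) (Y := SkySec (x := x) (RS A x →ₗ[R] J) U)
            { toFun := fun s hs => h' (M₂.presheaf.germ U.unop x hs.down s)
              map_zero' := funext fun hs => by
                change h' (M₂.presheaf.germ U.unop x hs.down 0) = 0
                rw [map_zero, map_zero]
              map_add' := fun s t => funext fun hs => by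
                change h' (M₂.presheaf.germ U.unop x hs.down (s + t)) =
                  h' (M₂.presheaf.germ U.unop x hs.down s) + h' (M₂.presheaf.germ U.unop x hs.down t)
                rw [map_add, map_add] }
          naturality := fun U W i => AddCommGrpCat.hom_ext (AddMonoidHom.ext fun s => funext fun hs =>
            congrArg h' (TopCat.Presheaf.germ_res_apply M₂.presheaf i.unop x hs.down s)) }
        fun U r s => funext fun (hs : PLift (x ∈ U.unop)) => by
          change h' (M₂.presheaf.germ U.unop x hs.down ((show Γ(X, U.unop) from r) • (show Γ(M₂, U.unop) from s))) =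
            rgerm hs.down (φ.hom.app (op U.unop) (show Γ(X, U.unop) from r)) • h' (M₂.presheaf.germ U.unop x hs.down s)
          rw [← ψ_germ φ hs.down, hψE, gs M₂, map_smul] }
  have hT : m ≫ T' = T := SheafOfModules.hom_ext (PresheafOfModules.hom_ext fun U =>
    ModuleCat.hom_ext (LinearMap.ext fun s => funext fun (hs : PLift (x ∈ U.unop)) => by
      change h' (M₂.presheaf.germ U.unop x hs.down ((show M₁ ⟶ M₂ from m).app U.unop s)) = _
      rw [← hm₀]
      exact (hh' _).trans (hh₀ U.unop hs.down s)))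
  have hG : L.map m ≫ (adj.homEquiv N₂ S).symm T' = G := by
    rw [← Adjunction.homEquiv_naturality_left_symm, hT]
    exact Equiv.symm_apply_apply _ _
  apply hj
  change (toSky K j).val.app (op V.unop) (a.val.app V p) ⟨hx⟩ = (toSky K j).val.app (op V.unop) (b.val.app V p) ⟨hx⟩
  rw [show toSky K j = L.map m ≫ (adj.homEquiv N₂ S).symm T' from hG.symm]
  exact congrArg (fun t => ((adj.homEquiv N₂ S).symm T').val.app V t ⟨hx⟩) hab'

end GrothLib.AlgInd4
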