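import Mathlib.AlgebraicGeometry.Scheme
import Mathlib.Algebra.Category.ModuleCat.Stalk
import Mathlib.Algebra.Category.ModuleCat.Sheaf
import Mathlib.Topology.Sheaves.SheafCondition.UniqueGluing

/-!
# Skyscraper modules over sheaves of (noncommutative) rings
-/

set_option autoImplicit false
set_option backward.isDefEq.respectTransparency false
set_option linter.style.haveILetI false

universe u

open CategoryTheory CategoryTheory.Limits AlgebraicGeometry TopologicalSpace Opposite

noncomputable section

namespace GrothLib.AlgInd4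

variable {X : Scheme.{u}} {A : Sheaf (Opens.grothendieckTopology X) RingCat.{u}} {x : X}

variable (A x) in
/-- The stalk of a sheaf of rings. -/
abbrev RS : Type u := TopCat.Presheaf.stalk (C := RingCat.{u}) (X := X.carrier) A.obj x

/-- The germ in the stalk of a sheaf of rings. -/
abbrev rgerm {U : X.Opens} (hx : x ∈ U) : A.obj.obj (op U) →+* RS A x :=
  (TopCat.Presheaf.germ (C := RingCat.{u}) (X := X.carrier) A.obj U x hx).hom

theorem rgerm_res {U V : X.Opens} (i : V ⟶ U) (hV : x ∈ V) (a : A.obj.obj (op U)) :
    rgerm hV (A.obj.map i.op a) = rgerm (leOfHom i hV) a :=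
  TopCat.Presheaf.germ_res_apply (C := RingCat.{u}) (X := X.carrier) A.obj i x hV a

variable (E : Type u) [AddCommGroup E] [Module (RS A x) E]

/-- Sections of the skyscraper module. -/
def SkySec (U : (Opens X)ᵒᵖ) : Type u := PLift (x ∈ U.unop) → E

instance (U : (Opens X)ᵒᵖ) : AddCommGroup (SkySec (x := x) E U) :=
  inferInstanceAs (AddCommGroup (PLift (x ∈ U.unop) → E))

instance (U : (Opens X)ᵒᵖ) : Module (A.obj.obj U) (SkySec (x := x) E U) where
  smul a f := fun h => rgerm h.down a • f h
  one_smul f := funext fun h => show rgerm h.down 1 • f h = f h by rw [map_one, one_smul]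
  mul_smul a b f := funext fun h =>
    show rgerm h.down (a * b) • f h = rgerm h.down a • rgerm h.down b • f h by rw [map_mul, mul_smul]
  smul_zero a := funext fun h => show rgerm h.down a • (0 : E) = 0 from smul_zero _
  smul_add a f g := funext fun h => show rgerm h.down a • (f h + g h) = rgerm h.down a • f h + rgerm h.down a • g h from smul_add _ _ _
  add_smul a b f := funext fun h =>
    show rgerm h.down (a + b) • f h = rgerm h.down a • f h + rgerm h.down b • f h by rw [map_add, add_smul]
  zero_smul f := funext fun h => show rgerm h.down 0 • f h = 0 by rw [map_zero, zero_smul]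

variable (x) in
/-- The underlying presheaf. -/
def skyPresheaf : (Opens X)ᵒᵖ ⥤ Ab.{u} where
  obj U := AddCommGrpCat.of (SkySec (x := x) E U)
  map {U V} i := AddCommGrpCat.ofHom
    { toFun := fun f h => f ⟨leOfHom i.unop h.down⟩
      map_zero' := rfl
      map_add' := fun _ _ => rfl }

instance skyModule (U : (Opens X)ᵒᵖ) : Module (A.obj.obj U) ((skyPresheaf x E).obj U) :=
  inferInstanceAs (Module (A.obj.obj U) (SkySec (x := x) E U))

variable (x) in
theorem isSheaf_sky : TopCat.Presheaf.IsSheaf (X := X.toTopCat) (skyPresheaf x E) := by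
  rw [TopCat.Presheaf.isSheaf_iff_isSheafUniqueGluing]
  intro ι U sf hsf
  classical
  let s : SkySec (x := x) E (op (iSup U)) := fun h =>
    sf (Opens.mem_iSup.1 h.down).choose ⟨(Opens.mem_iSup.1 h.down).choose_spec⟩
  refine ⟨s, fun i => funext fun hi => ?_, fun t ht => funext fun h => ?_⟩
  · exact congrFun (hsf (Opens.mem_iSup.1 (Opens.mem_iSup.2 ⟨i, hi.down⟩)).choose i)
      ⟨(Opens.mem_iSup.1 (Opens.mem_iSup.2 ⟨i, hi.down⟩)).choose_spec, hi.down⟩
  · exact congrFun (ht (Opens.mem_iSup.1 h.down).choose) ⟨(Opens.mem_iSup.1 h.down).choose_spec⟩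

variable (x) in
/-- The skyscraper module. -/
def sky : SheafOfModules.{u} A where
  val := PresheafOfModules.ofPresheaf (R := A.obj) (skyPresheaf x E) fun {U V} i r f =>
    funext fun h => congrArg (· • f ⟨leOfHom i.unop h.down⟩) (rgerm_res i.unop h.down r).symm
  isSheaf := isSheaf_sky x E

/-- The stalk of a module. -/
abbrev MS (M : SheafOfModules.{u} A) (x : X) : Type u :=
  TopCat.Presheaf.stalk (C := Ab.{u}) (X := X.carrier) M.val.presheaf x

/-- The germ in the stalk of a module. -/
abbrev mgerm (M : SheafOfModules.{u} A) {U : X.Opens} (hx : x ∈ U) : M.val.obj (op U) →+ MS M x :=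
  (TopCat.Presheaf.germ (C := Ab.{u}) (X := X.carrier) M.val.presheaf U x hx).hom

theorem mgerm_res (M : SheafOfModules.{u} A) {U V : X.Opens} (i : V ⟶ U) (hV : x ∈ V) (m : M.val.obj (op U)) :
    mgerm M hV (M.val.presheaf.map i.op m) = mgerm M (leOfHom i hV) m :=
  TopCat.Presheaf.germ_res_apply (C := Ab.{u}) (X := X.carrier) M.val.presheaf i x hV m

theorem mgerm_smul (M : SheafOfModules.{u} A) {U : X.Opens} (hx : x ∈ U) (a : A.obj.obj (op U))
    (m : M.val.obj (op U)) : mgerm M hx (a • m) = rgerm hx a • mgerm M hx m :=
  PresheafOfModules.germ_ringCat_smul (X := X.toTopCat) (R := A.obj) M.val x U hx a m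

theorem exists_mgerm (M : SheafOfModules.{u} A) (p : MS M x) :
    ∃ (U : X.Opens) (hx : x ∈ U) (m : M.val.obj (op U)), mgerm M hx m = p :=
  TopCat.Presheaf.exists_germ_eq (C := Ab.{u}) (X := X.carrier) M.val.presheaf p

variable {E}

/-- A linear map on the stalk gives a map to the skyscraper. -/
def toSky (M : SheafOfModules.{u} A) (f : MS M x →ₗ[RS A x] E) : M ⟶ sky (A := A) x E where
  val := PresheafOfModules.homMk
    { app := fun U => AddCommGrpCat.ofHom (X := M.val.presheaf.obj U) (Y := SkySec (x := x) E U)
        { toFun := fun m h => f (mgerm M (U := U.unop) h.down m)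
          map_zero' := funext fun h => by
            change f (mgerm M h.down 0) = 0
            rw [map_zero, map_zero]
          map_add' := fun a b => funext fun h => by
            change f (mgerm M h.down (a + b)) = f (mgerm M h.down a) + f (mgerm M h.down b)
            rw [map_add, map_add] }
      naturality := fun U V i => AddCommGrpCat.hom_ext (AddMonoidHom.ext fun m => funext fun h =>
        congrArg f (mgerm_res M i.unop h.down m)) }
    fun U r m => funext fun (h : PLift (x ∈ U.unop)) => by
      change f (mgerm M h.down (r • m)) = rgerm h.down r • f (mgerm M h.down m)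
      rw [mgerm_smul, map_smul]

theorem toSky_apply (M : SheafOfModules.{u} A) (f : MS M x →ₗ[RS A x] E) {U : X.Opens}
    (m : M.val.obj (op U)) (h : x ∈ U) : (toSky M f).val.app (op U) m ⟨h⟩ = f (mgerm M h m) := rfl

end GrothLib.AlgInd4
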